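import Groth.Agent.Lib.GITQuot.Descend

/-!
# Universal categorical quotients
-/

set_option autoImplicit false
set_option backward.isDefEq.respectTransparency.types false
universe u

open CategoryTheory Limits MonoidalCategory CartesianMonoidalCategory MonObj AlgebraicGeometry Topology Opposite

noncomputable section

namespace UnivCat19

open Groth.Agent.GITQuot

variable {S : Scheme.{u}} {G X Y X' Y' : Over S} [GrpObj G] {a : AlgGrp.Action G X} {φ : X ⟶ Y}

variable (S) in
/-- The affine line over `S`. -/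
def line : Over S := Over.mk (pullback.snd (terminal.from A1.{u}) (terminal.from S))

/-- A function as a morphism to the affine line. -/
def toLine {W : Over S} (s : Γ(W.left, ⊤)) : W ⟶ line S :=
  Over.homMk (pullback.lift (fnS s) W.hom (terminal.hom_ext _ _)) (pullback.lift_snd _ _ _)

/-- A morphism to the affine line as a function. -/
def ofLine {W : Over S} (m : W ⟶ line S) : Γ(W.left, ⊤) :=
  valA1 (m.left ≫ pullback.fst (terminal.from A1.{u}) (terminal.from S))

theorem ofLine_toLine {W : Over S} (s : Γ(W.left, ⊤)) : ofLine (toLine s) = s := by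
  show valA1 (pullback.lift (fnS s) W.hom (terminal.hom_ext _ _) ≫ pullback.fst _ _) = s
  erw [pullback.lift_fst, valA1_fnS]

theorem ofLine_comp {W W' : Over S} (t : W' ⟶ W) (m : W ⟶ line S) :
    ofLine (t ≫ m) = t.left.appTop (ofLine m) := by
  rw [ofLine, ofLine, Over.comp_left, Category.assoc, valA1_comp]

theorem comp_toLine {W W' : Over S} (t : W' ⟶ W) (s : Γ(W.left, ⊤)) :
    t ≫ toLine s = toLine (t.left.appTop s) := by
  apply Over.OverMorphism.ext
  apply pullback.hom_ext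
  · show (t.left ≫ pullback.lift (fnS s) W.hom (terminal.hom_ext _ _)) ≫ pullback.fst _ _ =
      pullback.lift (fnS (t.left.appTop s)) W'.hom (terminal.hom_ext _ _) ≫ pullback.fst _ _
    rw [Category.assoc]
    erw [pullback.lift_fst, pullback.lift_fst]
    exact comp_fnS _ _
  · show (t.left ≫ pullback.lift (fnS s) W.hom (terminal.hom_ext _ _)) ≫ pullback.snd _ _ =
      pullback.lift (fnS (t.left.appTop s)) W'.hom (terminal.hom_ext _ _) ≫ pullback.snd _ _
    rw [Category.assoc]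
    erw [pullback.lift_snd, pullback.lift_snd]
    exact Over.w t

theorem baseChange (h : GIT.IsUnivCatQuot a φ) {pr : X' ⟶ X} {φ' : X' ⟶ Y'} {g : Y' ⟶ Y}
    (sq : IsPullback pr φ' φ g) {a' : AlgGrp.Action G X'} (e : a'.act ≫ pr = (G ◁ pr) ≫ a.act)
    (hi : GIT.IsInvariant a' φ') : GIT.IsUnivCatQuot a' φ' :=
  ⟨h.2 pr φ' g trivial sq a' e hi, fun X'' Y'' pr₂ φ'' g₂ _ sq₂ a'' e₂ hi₂ =>
    h.2 (pr₂ ≫ pr) φ'' (g₂ ≫ g) trivial (sq₂.paste_horiz sq) a''
      (by rw [← Category.assoc, e₂, Category.assoc, e, ← Category.assoc, MonoidalCategory.whiskerLeft_comp])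
      hi₂⟩

theorem surjective (h : GIT.IsUnivCatQuot a φ) : Function.Surjective φ.left.base := by
  intro y
  by_contra hy
  push Not at hy
  let T : Over S := Over.mk (Y.left.fromSpecResidueField y ≫ Y.hom)
  let g : T ⟶ Y := Over.homMk (Y.left.fromSpecResidueField y) rfl
  have sq := IsPullback.of_hasPullback φ g
  obtain ⟨a', e, hi⟩ := exists_pullback_action h.1.1 sq
  have hE : IsEmpty ↥(pullback φ g).left := ⟨fun x => hy ((pullback.fst φ g).left x) (by
    have h1 : (pullback.fst φ g ≫ φ).left x = (pullback.snd φ g ≫ g).left x := by rw [pullback.condition]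
    rw [Over.comp_left, Over.comp_left, Scheme.Hom.comp_apply, Scheme.Hom.comp_apply] at h1
    refine h1.trans ?_
    exact Scheme.fromSpecResidueField_apply y _)⟩
  have hsub : ∀ {Z : Over S} (m m' : pullback φ g ⟶ Z), m = m' := fun m m' =>
    Over.OverMorphism.ext (isInitialOfIsEmpty.hom_ext _ _)
  have hc := (baseChange h sq e hi).1.2 (line S) (pullback.snd φ g ≫ toLine 0) (by
    show a'.act ≫ pullback.snd φ g ≫ _ = snd G _ ≫ pullback.snd φ g ≫ _
    rw [← Category.assoc, show a'.act ≫ pullback.snd φ g = snd G _ ≫ pullback.snd φ g from hi,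
      Category.assoc])
  have h01 : (toLine (0 : Γ(T.left, ⊤)) : T ⟶ line S) = toLine 1 := hc.unique rfl (hsub _ _)
  have := congrArg ofLine h01
  rw [ofLine_toLine, ofLine_toLine] at this
  have : (0 : Y.left.residueField y) = 1 := by
    have := congrArg (Scheme.ΓSpecIso (Y.left.residueField y)).hom this
    simp at this
  exact zero_ne_one this

theorem sections (h : GIT.IsUnivCatQuot a φ) (U : Y.left.Opens) :
    Function.Injective (φ.left.app U) ∧ Set.range (φ.left.app U) = {f | GIT.IsInvSection a φ U f} := by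
  set O := φ.left ⁻¹ᵁ U with hO
  let W : Over S := Over.mk (U.ι ≫ Y.hom)
  let g : W ⟶ Y := Over.homMk U.ι rfl
  let X₀ : Over S := Over.mk (O.ι ≫ X.hom)
  let pr : X₀ ⟶ X := Over.homMk O.ι rfl
  let q : O.toScheme ⟶ U.toScheme := φ.left.resLE U O le_rfl
  have hq : q ≫ U.ι = O.ι ≫ φ.left := φ.left.resLE_comp_ι le_rfl
  let φ₀ : X₀ ⟶ W := Over.homMk q (by
    show q ≫ U.ι ≫ Y.hom = O.ι ≫ X.hom
    rw [reassoc_of% hq, Over.w])
  have sq : IsPullback pr φ₀ φ g := by
    refine IsPullback.of_map (Over.forget S) (Over.OverMorphism.ext hq.symm) ?_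
    show IsPullback O.ι q φ.left U.ι
    rw [show q = φ.left ∣_ U from Scheme.Hom.resLE_eq_morphismRestrict _]
    exact (isPullback_morphismRestrict φ.left U).flip
  obtain ⟨a₀, e₀, hi₀⟩ := exists_pullback_action h.1.1 sq
  have hc := (baseChange h sq e₀ hi₀).1.2
  have key : ∀ t : Γ(Y.left, U), φ₀ ≫ toLine (W := W) (resT U t) = toLine (W := X₀) (resT O (φ.left.app U t)) := by
    intro t
    rw [comp_toLine]
    refine congrArg toLine ?_
    rw [Scheme.Hom.app_eq_appLE]
    exact resLE_resT φ.left le_rfl t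
  have hinv : ∀ f, GIT.IsInvSection a φ U f →
      GIT.IsInvariant a₀ (toLine (W := X₀) (resT O f)) := by
    intro f hf
    show a₀.act ≫ _ = snd G X₀ ≫ _
    rw [comp_toLine, comp_toLine]
    refine congrArg toLine ?_
    set V := a.act.left ⁻¹ᵁ O ⊓ (snd G X).left ⁻¹ᵁ O
    have w1 : a₀.act.left ≫ O.ι = (G ◁ pr).left ≫ a.act.left :=
      congrArg (fun m : G ⊗ X₀ ⟶ X => m.left) e₀
    have w2 : (snd G X₀).left ≫ O.ι = (G ◁ pr).left ≫ (snd G X).left :=
      congrArg (fun m : G ⊗ X₀ ⟶ X => m.left) (whiskerLeft_snd G pr).symm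
    have hV : ⊤ ≤ (G ◁ pr).left ⁻¹ᵁ V := fun z _ =>
      ⟨show ((G ◁ pr).left ≫ a.act.left) z ∈ O by rw [← w1]; exact (a₀.act.left z).2,
        show ((G ◁ pr).left ≫ (snd G X).left) z ∈ O by rw [← w2]; exact ((snd G X₀).left z).2⟩
    have k0 : ∀ (m : (G ⊗ X₀).left ⟶ O.toScheme) (n : (G ⊗ X).left ⟶ X.left) (hn : V ≤ n ⁻¹ᵁ O),
        m ≫ O.ι = (G ◁ pr).left ≫ n →
        m.appTop (resT O f) = (G ◁ pr).left.appLE V ⊤ hV (n.appLE O V hn f) := by
      intro m n hn hmn
      rw [← CommRingCat.comp_apply, ← CommRingCat.comp_apply]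
      refine congrArg (fun r => (CommRingCat.Hom.hom r) f) ?_
      simp only [resT, Scheme.Hom.appTop, Scheme.Hom.app_eq_appLE]
      exact (Scheme.Hom.appLE_comp_appLE _ _ _ _ _ _ _).trans
        ((appLE_congr hmn _ _ _).trans (Scheme.Hom.appLE_comp_appLE _ _ _ _ _ _ _).symm)
    rw [k0 _ _ inf_le_left w1, k0 _ _ inf_le_right w2]
    exact congrArg ((G ◁ pr).left.appLE V ⊤ hV) hf
  refine ⟨fun t t' htt' => ?_, Set.ext fun f => ⟨?_, fun hf => ?_⟩⟩
  · apply (resT_bijective U).1
    have hu := hc (line S) (φ₀ ≫ toLine (W := W) (resT U t))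
      (by show a₀.act ≫ φ₀ ≫ _ = snd G X₀ ≫ φ₀ ≫ _
          rw [← Category.assoc, show a₀.act ≫ φ₀ = snd G X₀ ≫ φ₀ from hi₀, Category.assoc])
    have := congrArg ofLine (hu.unique rfl (show φ₀ ≫ toLine (W := W) (resT U t') = _ by rw [key, key, htt']))
    rw [ofLine_toLine, ofLine_toLine] at this
    exact this
  · rintro ⟨t, rfl⟩
    exact isInvSection_app h.1.1 U t
  · obtain ⟨χ, hχ, -⟩ := hc (line S) (toLine (W := X₀) (resT O f)) (hinv f hf)
    obtain ⟨t, ht⟩ := (resT_bijective U).2 (ofLine χ)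
    refine ⟨t, (resT_bijective O).1 ?_⟩
    have := congrArg ofLine hχ
    rw [ofLine_toLine, ofLine_comp, ← ht] at this
    rw [← this, Scheme.Hom.app_eq_appLE]
    exact (resLE_resT φ.left le_rfl t).symm

/-- The orbit map condition is stable under base change. -/
theorem orbit_baseChange (hinv : GIT.IsInvariant a φ) (ho : Function.Surjective (GIT.PsiY a φ hinv).base)
    {pr : X' ⟶ X} {φ' : X' ⟶ Y'} {g : Y' ⟶ Y}
    (sq : IsPullback pr φ' φ g) {a' : AlgGrp.Action G X'} (e : a'.act ≫ pr = (G ◁ pr) ≫ a.act)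
    (hi : GIT.IsInvariant a' φ') : Function.Surjective (GIT.PsiY a' φ' hi).base := by
  intro z
  let r : pullback φ'.left φ'.left ⟶ pullback φ.left φ.left :=
    pullback.map _ _ _ _ pr.left pr.left g.left (congrArg (fun m : X' ⟶ Y => m.left) sq.w).symm
      (congrArg (fun m : X' ⟶ Y => m.left) sq.w).symm
  obtain ⟨v, hv⟩ := ho (r z)
  obtain ⟨w, -, hw⟩ := Scheme.Pullback.exists_preimage_pullback (f := GIT.PsiY a φ hinv) (g := r) v z hv
  let P : Over S := Over.mk (pullback.fst (GIT.PsiY a φ hinv) r ≫ (G ⊗ X).hom)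
  let p₁ : P ⟶ G ⊗ X := Over.homMk (pullback.fst (GIT.PsiY a φ hinv) r) rfl
  let x₂ := pullback.snd (GIT.PsiY a φ hinv) r ≫ pullback.snd φ'.left φ'.left
  let x₁ := pullback.snd (GIT.PsiY a φ hinv) r ≫ pullback.fst φ'.left φ'.left
  have hc : pullback.fst (GIT.PsiY a φ hinv) r ≫ GIT.PsiY a φ hinv
      = pullback.snd (GIT.PsiY a φ hinv) r ≫ r := pullback.condition
  have hx₂ : x₂ ≫ pr.left = p₁.left ≫ (snd G X).left := by
    have := congrArg (· ≫ pullback.snd φ.left φ.left) hc
    simp only [Category.assoc, PsiY_snd, r, pullback.lift_snd] at this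
    simp only [x₂, Category.assoc]
    exact this.symm
  have hx₁ : x₁ ≫ pr.left = p₁.left ≫ a.act.left := by
    have := congrArg (· ≫ pullback.fst φ.left φ.left) hc
    simp only [Category.assoc, PsiY_fst, r, pullback.lift_fst] at this
    simp only [x₁, Category.assoc]
    exact this.symm
  let y₂ : P ⟶ X' := Over.homMk x₂ (by
    show x₂ ≫ X'.hom = _
    rw [← Over.w pr, reassoc_of% hx₂, Over.w (snd G X)]
    rfl)
  let y₁ : P ⟶ X' := Over.homMk x₁ (by
    show x₁ ≫ X'.hom = _
    rw [← Over.w pr, reassoc_of% hx₁, Over.w a.act]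
    rfl)
  let L : P ⟶ G ⊗ X' := lift (p₁ ≫ fst G X) y₂
  have hL₂ : L ≫ snd G X' = y₂ := lift_snd _ _
  have hy₂ : y₂ ≫ pr = p₁ ≫ snd G X := Over.OverMorphism.ext hx₂
  have hy₁ : y₁ ≫ pr = p₁ ≫ a.act := Over.OverMorphism.ext hx₁
  have hL₁ : L ≫ a'.act = y₁ := by
    refine sq.hom_ext ?_ ?_
    · rw [Category.assoc, e, lift_whiskerLeft_assoc, hy₁, hy₂, ← comp_lift_assoc, lift_fst_snd,
        Category.id_comp]
    · rw [Category.assoc, show a'.act ≫ φ' = snd G X' ≫ φ' from hi, ← Category.assoc, hL₂]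
      apply Over.OverMorphism.ext
      show x₂ ≫ φ'.left = x₁ ≫ φ'.left
      simp only [x₁, x₂, Category.assoc, pullback.condition]
  refine ⟨L.left w, ?_⟩
  have hk : L.left ≫ GIT.PsiY a' φ' hi = pullback.snd (GIT.PsiY a φ hinv) r := by
    apply pullback.hom_ext
    · rw [Category.assoc, PsiY_fst]
      exact congrArg (fun m : P ⟶ X' => m.left) hL₁
    · rw [Category.assoc, PsiY_snd]
      exact congrArg (fun m : P ⟶ X' => m.left) hL₂
  exact ((congrArg (fun m => m w) hk).trans hw :)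

theorem isUnivGeomQuot_iff (h : GIT.IsUnivCatQuot a φ) :
    GIT.IsUnivGeomQuot a φ ↔
      GIT.IsUnivSubmersive φ.left ∧ Function.Surjective (GIT.PsiY a φ h.1.1).base := by
  refine ⟨fun hg => ⟨hg.1.subm, hg.1.orbit⟩, fun ⟨hs, ho⟩ =>
    ⟨⟨h.1.1, surjective h, ho, hs, sections h⟩, ?_⟩⟩
  intro X' Y' pr φ' g _ sq a' e hi
  exact ⟨hi, surjective (baseChange h sq e hi), orbit_baseChange h.1.1 ho sq e hi,
    MorphismProperty.of_isPullback (P := MorphismProperty.universally (topologically @IsQuotientMap))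
      (sq.map (Over.forget S)) hs,
    sections (baseChange h sq e hi)⟩

end UnivCat19
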